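import Mathlib
import Groth.Agent.LocalTraceLib.Basic

/-!
The trace of `B ⧸ I` over `A ⧸ p` as a sum over the prime factors of `I`.
-/

set_option autoImplicit false
set_option linter.style.haveILetI false
set_option backward.isDefEq.respectTransparency false

universe u

namespace Groth.Agent.TraceModPLib

open UniqueFactorizationMonoid

variable {A B : Type u} [CommRing A] [CommRing B] [IsDedekindDomain B] [Algebra A B] [Module.Finite A B]
variable (p : Ideal A) [p.IsMaximal]

attribute [local instance] Ideal.Quotient.field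

theorem instances_eq {I : Ideal B} (i j : Algebra (A ⧸ p) (B ⧸ I))
    (hi : letI := i; IsScalarTower A (A ⧸ p) (B ⧸ I)) (hj : letI := j; IsScalarTower A (A ⧸ p) (B ⧸ I)) : i = j := by
  refine Algebra.algebra_ext i j fun r => ?_
  obtain ⟨r, rfl⟩ := Ideal.Quotient.mk_surjective r
  exact (@IsScalarTower.algebraMap_apply A (A ⧸ p) (B ⧸ I) _ _ _ _ i _ hi r).symm.trans
    (@IsScalarTower.algebraMap_apply A (A ⧸ p) (B ⧸ I) _ _ _ _ j _ hj r)

theorem step (Q J : Ideal B) [hQ : Q.IsMaximal] (hJ : J ≠ ⊥)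
    [Algebra (A ⧸ p) (B ⧸ Q)] [IsScalarTower A (A ⧸ p) (B ⧸ Q)]
    [Algebra (A ⧸ p) (B ⧸ J)] [IsScalarTower A (A ⧸ p) (B ⧸ J)]
    [Algebra (A ⧸ p) (B ⧸ Q * J)] [IsScalarTower A (A ⧸ p) (B ⧸ Q * J)] (y : B) :
    Algebra.trace (A ⧸ p) (B ⧸ Q * J) (Ideal.Quotient.mk _ y) =
      Algebra.trace (A ⧸ p) (B ⧸ Q) (Ideal.Quotient.mk _ y) +
        Algebra.trace (A ⧸ p) (B ⧸ J) (Ideal.Quotient.mk _ y) := by
  haveI : Module.Finite (A ⧸ p) (B ⧸ Q) := Module.Finite.of_restrictScalars_finite A _ _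
  haveI : Module.Finite (A ⧸ p) (B ⧸ J) := Module.Finite.of_restrictScalars_finite A _ _
  haveI : Module.Finite (A ⧸ p) (B ⧸ Q * J) := Module.Finite.of_restrictScalars_finite A _ _
  have hlt : Q * J < J := lt_of_le_of_ne Ideal.mul_le_right fun h => hQ.ne_top (by
    rw [← Ideal.one_eq_top]
    exact mul_right_cancel₀ hJ (h.trans (one_mul J).symm))
  obtain ⟨a, haJ, ha⟩ := SetLike.exists_of_lt hlt
  have hspan : Ideal.span {a} ⊔ Q * J = J := by
    have hle : Ideal.span {a} ⊔ Q * J ≤ J := sup_le ((Ideal.span_singleton_le_iff_mem _).2 haJ) hlt.le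
    obtain ⟨L, hL⟩ := Ideal.dvd_iff_le.2 hle
    have hQL : Q ≤ L := by
      have h1 : J * L ∣ J * Q := Ideal.dvd_iff_le.2 (by rw [← hL, mul_comm]; exact le_sup_right)
      exact Ideal.dvd_iff_le.1 ((mul_dvd_mul_iff_left hJ).1 h1)
    rcases eq_or_ne L ⊤ with rfl | hne
    · rw [hL, Ideal.mul_top]
    · exfalso
      refine ha ?_
      rw [mul_comm, hQ.eq_of_le hne hQL, ← hL]
      exact Submodule.mem_sup_left (Ideal.mem_span_singleton_self a)
  have hker : Q = Submodule.comap (LinearMap.mul B B a) (Q * J) := by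
    refine hQ.eq_of_le (fun h => ha ?_) fun b hb => ?_
    · have : (1 : B) ∈ Submodule.comap (LinearMap.mul B B a) (Q * J) := h ▸ Submodule.mem_top
      simpa using this
    · show a * b ∈ Q * J
      rw [mul_comm a b]
      exact Ideal.mul_mem_mul hb haJ
  let ι₀ : (B ⧸ Q) →ₗ[B] (B ⧸ Q * J) := Submodule.mapQ Q (Q * J) (LinearMap.mul B B a) hker.le
  let q₀ : (B ⧸ Q * J) →ₗ[B] (B ⧸ J) := Submodule.mapQ (Q * J) J LinearMap.id hlt.le
  have hs : Function.Surjective (algebraMap A (A ⧸ p)) := Ideal.Quotient.mk_surjective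
  let ι := LinearMap.extendScalarsOfSurjective hs (ι₀.restrictScalars A)
  let q := LinearMap.extendScalarsOfSurjective hs (q₀.restrictScalars A)
  have hι : ∀ b, ι (Ideal.Quotient.mk Q b) = Ideal.Quotient.mk _ (a * b) := fun _ => rfl
  have hq : ∀ b, q (Ideal.Quotient.mk _ b) = Ideal.Quotient.mk J b := fun _ => rfl
  simp only [Algebra.trace_apply]
  refine Groth.Agent.LocalTraceLib.trace_exact ι q ?_ ?_ ?_ _ _ _ ?_ ?_
  · rw [injective_iff_map_eq_zero]
    intro z hz
    obtain ⟨b, rfl⟩ := Ideal.Quotient.mk_surjective z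
    rw [hι, Ideal.Quotient.eq_zero_iff_mem] at hz
    rw [Ideal.Quotient.eq_zero_iff_mem, hker]
    exact hz
  · intro z
    obtain ⟨b, rfl⟩ := Ideal.Quotient.mk_surjective z
    exact ⟨_, hq b⟩
  · intro z
    obtain ⟨b, rfl⟩ := Ideal.Quotient.mk_surjective z
    rw [hq, Ideal.Quotient.eq_zero_iff_mem]
    constructor
    · intro hb
      rw [← hspan, Submodule.mem_sup] at hb
      obtain ⟨c, hc, d, hd, rfl⟩ := hb
      obtain ⟨e, rfl⟩ := Ideal.mem_span_singleton.1 hc
      refine ⟨Ideal.Quotient.mk Q e, ?_⟩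
      rw [hι, map_add, (Ideal.Quotient.eq_zero_iff_mem (I := Q * J)).2 hd, add_zero]
    · rintro ⟨w, hw⟩
      obtain ⟨e, rfl⟩ := Ideal.Quotient.mk_surjective w
      rw [hι, Ideal.Quotient.eq] at hw
      have := sub_mem (J.mul_mem_right e haJ) (hlt.le hw)
      simpa using this
  · refine LinearMap.ext fun z => ?_
    obtain ⟨b, rfl⟩ := Ideal.Quotient.mk_surjective z
    simp only [LinearMap.comp_apply, Algebra.coe_lmul_eq_mul, LinearMap.mul_apply_apply, ← map_mul, hι]
    rw [mul_left_comm]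
  · refine LinearMap.ext fun z => ?_
    obtain ⟨b, rfl⟩ := Ideal.Quotient.mk_surjective z
    simp only [LinearMap.comp_apply, Algebra.coe_lmul_eq_mul, LinearMap.mul_apply_apply, ← map_mul, hq]

/-- The algebra structure on a quotient lying over `p`. -/
@[implicit_reducible]
def quotAlg {I : Ideal B} (h : p.map (algebraMap A B) ≤ I) : Algebra (A ⧸ p) (B ⧸ I) :=
  Ideal.Quotient.algebraQuotientOfLEComap (Ideal.map_le_iff_le_comap.1 h)

theorem quotAlg_tower {I : Ideal B} (h : p.map (algebraMap A B) ≤ I) :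
    letI := quotAlg p h
    IsScalarTower A (A ⧸ p) (B ⧸ I) :=
  letI := quotAlg p h
  .of_algebraMap_eq fun _ => rfl

open Classical in
/-- The residual trace at `Q`. -/
noncomputable def resTrace (y : B) (Q : Ideal B) : A ⧸ p :=
  if h : p.map (algebraMap A B) ≤ Q then
    letI := quotAlg p h
    Algebra.trace (A ⧸ p) (B ⧸ Q) (Ideal.Quotient.mk Q y)
  else 0

theorem trace_eq_resTrace (y : B) (Q : Ideal B) [i : Algebra (A ⧸ p) (B ⧸ Q)] [hi : IsScalarTower A (A ⧸ p) (B ⧸ Q)]
    (h : p.map (algebraMap A B) ≤ Q) :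
    Algebra.trace (A ⧸ p) (B ⧸ Q) (Ideal.Quotient.mk Q y) = resTrace p y Q := by
  obtain rfl := instances_eq p i (quotAlg p h) hi (quotAlg_tower p h)
  rw [resTrace, dif_pos h]

theorem trace_prod (y : B) (s : Multiset (Ideal B)) (hs : ∀ Q ∈ s, Q.IsMaximal ∧ Q ≠ ⊥) :
    ∀ (I : Ideal B), I = s.prod → ∀ [Algebra (A ⧸ p) (B ⧸ I)] [IsScalarTower A (A ⧸ p) (B ⧸ I)],
      p.map (algebraMap A B) ≤ I →
      Algebra.trace (A ⧸ p) (B ⧸ I) (Ideal.Quotient.mk I y) = (s.map (resTrace p y)).sum := by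
  induction s using Multiset.induction with
  | empty =>
    intro I hI _ _ _
    haveI : Subsingleton (B ⧸ I) := Ideal.Quotient.subsingleton_iff.2 (by rw [hI, Multiset.prod_zero, Ideal.one_eq_top])
    rw [Subsingleton.elim (Ideal.Quotient.mk I y) 0, map_zero, Multiset.map_zero, Multiset.sum_zero]
  | cons Q s ih =>
    intro I hI _ _ h
    subst hI
    have hJ : s.prod ≠ ⊥ := by
      rw [← Ideal.zero_eq_bot]
      exact Multiset.prod_ne_zero fun h0 => (hs _ (Multiset.mem_cons_of_mem h0)).2 rfl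
    haveI := (hs Q (Multiset.mem_cons_self Q s)).1
    rw [Multiset.map_cons, Multiset.sum_cons]
    revert h
    rename_i i hi
    revert i hi
    rw [Multiset.prod_cons]
    intro i hi h
    have hQ : p.map (algebraMap A B) ≤ Q := h.trans Ideal.mul_le_left
    have hJle : p.map (algebraMap A B) ≤ s.prod := h.trans Ideal.mul_le_right
    letI := quotAlg p hQ
    haveI := quotAlg_tower p hQ
    letI := quotAlg p hJle
    haveI := quotAlg_tower p hJle
    rw [step p Q s.prod hJ y, trace_eq_resTrace p y Q hQ,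
      ih (fun Q hQ => hs Q (Multiset.mem_cons_of_mem hQ)) _ rfl hJle]

end Groth.Agent.TraceModPLib
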